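import Mathlib

/-!
The theorem of Sylvester and Schur for binomial coefficients: for `1 ≤ k` and `2 * k ≤ m`,
`m.choose k` has a prime divisor above `k`. Erdős's argument for `k ≥ 2048`, explicit chains of
primes below that.
-/

set_option autoImplicit false

namespace Cfsg.Agent.Lib.SylvesterSchur

open Nat Finset

theorem prime_dvd_choose {p m k : ℕ} (hp : p.Prime) (hkp : k < p) (hm : m % p < k) (hkm : k ≤ m) :
    p ∣ m.choose k := by
  have hle : m % p ≤ m := Nat.mod_le _ _
  have h1 : p ∣ m - m % p := ⟨m / p, by have := Nat.div_add_mod m p; omega⟩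
  have h2 : p ∣ m.descFactorial k := by
    rw [descFactorial_eq_prod_range]
    exact h1.trans (Finset.dvd_prod_of_mem (fun i => m - i) (Finset.mem_range.2 hm))
  rw [descFactorial_eq_factorial_mul_choose] at h2
  exact (hp.dvd_mul.1 h2).resolve_left fun h => absurd (hp.dvd_factorial.1 h) (by omega)

theorem pow_le_choose_mul (m k : ℕ) (h : k ≤ m) : m ^ k ≤ m.choose k * k ^ k := by
  have key : ∀ i ≤ k, m ^ i * k.descFactorial i ≤ m.descFactorial i * k ^ i := by
    intro i hi
    induction i with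
    | zero => simp
    | succ i ih =>
      have h1 := ih (by omega)
      have h2 : m * (k - i) ≤ (m - i) * k := by
        rw [Nat.mul_sub, Nat.sub_mul]
        refine Nat.sub_le_sub_left ?_ _
        rw [mul_comm m i]
        exact Nat.mul_le_mul_left i h
      calc m ^ (i + 1) * k.descFactorial (i + 1)
          = (m * (k - i)) * (m ^ i * k.descFactorial i) := by
            rw [descFactorial_succ, pow_succ]; ring
        _ ≤ ((m - i) * k) * (m.descFactorial i * k ^ i) := Nat.mul_le_mul h2 h1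
        _ = m.descFactorial (i + 1) * k ^ (i + 1) := by rw [descFactorial_succ, pow_succ]; ring
  have := key k le_rfl
  rw [descFactorial_self, descFactorial_eq_factorial_mul_choose] at this
  refine Nat.le_of_mul_le_mul_left ?_ k.factorial_pos
  linarith

theorem card_primes (n : ℕ) : ((range (n + 1)).filter Nat.Prime).card = n.primeCounting := by
  rw [primeCounting_eq_primeCounting'_succ]
  show _ = Nat.count Nat.Prime (n + 1)
  rw [count_eq_card_filter_range]

theorem primeCounting_le_third {s : ℕ} (hs : 6 ≤ s) : s.primeCounting ≤ s / 3 + 3 := by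
  have h := primeCounting'_add_le (a := 6) (k := 7) (by omega) (by omega) (s - 6)
  have h7 : primeCounting' 7 ≤ 3 := by decide
  have h6 : Nat.totient 6 = 2 := by decide
  rw [primeCounting_eq_primeCounting'_succ]
  rw [h6, show 7 + (s - 6) = s + 1 by omega] at h
  omega

/-- Grouping of the prime power factorisation of `m.choose k` without primes above `k`. -/
theorem choose_le_pow {m k : ℕ} (hkm : k ≤ m) (hm : 0 < m)
    (hs : ∀ p : ℕ, p.Prime → p ∣ m.choose k → p ≤ k) :
    m.choose k ≤ m ^ k.primeCounting := by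
  classical
  conv_lhs => rw [← prod_pow_factorization_choose m k hkm]
  have hz : ∀ p ∈ range (m + 1), p ^ (m.choose k).factorization p ≠ 1 → p ∈ (range (k + 1)).filter Nat.Prime := by
    intro p _ hp
    have hv : (m.choose k).factorization p ≠ 0 := fun h => hp (by rw [h, pow_zero])
    have hpp := Nat.prime_of_mem_primeFactors (Nat.support_factorization _ ▸ Finsupp.mem_support_iff.2 hv)
    exact mem_filter.2 ⟨mem_range.2 (Nat.lt_succ_of_le (hs p hpp
      ((Nat.Prime.dvd_iff_one_le_factorization hpp (choose_ne_zero hkm)).2 (by omega)))), hpp⟩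
  rw [← prod_filter_ne_one]
  refine (prod_le_prod' fun p _ => pow_factorization_choose_le hm).trans ?_
  rw [prod_const, ← card_primes]
  refine Nat.pow_le_pow_right hm (card_le_card fun p hp => ?_)
  rw [mem_filter] at hp
  exact hz p hp.1 hp.2

/-- The finer grouping: `b` bounds the primes above `sqrt m` which occur. -/
theorem choose_le_sqrt {m k b : ℕ} (hkm : k ≤ m) (hm : 0 < m)
    (hb : ∀ p : ℕ, p.Prime → p ∣ m.choose k → Nat.sqrt m < p → p ≤ b) :
    m.choose k ≤ m ^ (Nat.sqrt m).primeCounting * 4 ^ b := by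
  classical
  set f : ℕ → ℕ := fun p => p ^ (m.choose k).factorization p with hf
  have hpr : ∀ p, f p ≠ 1 → p.Prime ∧ p ∣ m.choose k := by
    intro p hp
    have hv : (m.choose k).factorization p ≠ 0 := fun h => hp (by simp only [hf, h, pow_zero])
    have hpp := Nat.prime_of_mem_primeFactors (Nat.support_factorization _ ▸ Finsupp.mem_support_iff.2 hv)
    exact ⟨hpp, (Nat.Prime.dvd_iff_one_le_factorization hpp (choose_ne_zero hkm)).2 (by omega)⟩
  have h0 : ∏ p ∈ range (m + 1), f p = m.choose k := prod_pow_factorization_choose m k hkm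
  rw [← h0, ← prod_filter_ne_one, ← prod_filter_mul_prod_filter_not _ (fun p => p ≤ Nat.sqrt m)]
  apply Nat.mul_le_mul
  · refine (prod_le_prod' fun p _ => pow_factorization_choose_le hm).trans ?_
    rw [prod_const, ← card_primes]
    refine Nat.pow_le_pow_right hm (card_le_card fun p hp => ?_)
    simp only [mem_filter, mem_range] at hp ⊢
    exact ⟨by omega, (hpr p hp.1.2).1⟩
  · set U := (((range (m + 1)).filter fun p => f p ≠ 1).filter fun p => ¬ p ≤ Nat.sqrt m)
    calc ∏ p ∈ U, f p ≤ ∏ p ∈ U, p := by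
          refine prod_le_prod' fun p hp => ?_
          simp only [U, mem_filter] at hp
          refine (Nat.pow_le_pow_right (hpr p hp.1.2).1.pos ?_).trans (pow_one p).le
          exact factorization_choose_le_one (Nat.sqrt_lt'.1 (not_le.1 hp.2))
      _ ≤ ∏ p ∈ (range (b + 1)).filter Nat.Prime, p := by
          refine prod_le_prod_of_subset_of_one_le' (fun p hp => ?_) fun p hp _ => (mem_filter.1 hp).2.one_lt.le
          simp only [U, mem_filter] at hp
          obtain ⟨h1, h2⟩ := hpr p hp.1.2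
          exact mem_filter.2 ⟨mem_range.2 (Nat.lt_succ_of_le (hb p h1 h2 (not_le.1 hp.2))), h1⟩
      _ ≤ 4 ^ b := primorial_le_four_pow b

theorem four_pow_mul_le (k : ℕ) (hk : 0 < k) (j : ℕ) (hj : j ≤ k) :
    4 ^ k * 3 ^ j ≤ 2 * k * 2 ^ j * (2 * k + j).choose k := by
  induction j with
  | zero => simpa [centralBinom_eq_two_mul_choose] using four_pow_le_two_mul_self_mul_centralBinom k hk
  | succ j ih =>
    have h1 := ih (by omega)
    have h2 := choose_mul_succ_eq (2 * k + j) k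
    rw [show 2 * k + (j + 1) = 2 * k + j + 1 from rfl]
    set C := (2 * k + j).choose k
    set D := (2 * k + j + 1).choose k
    rw [show 2 * k + j + 1 - k = k + j + 1 by omega] at h2
    -- `3 * C ≤ 2 * D`
    have h3 : 3 * C ≤ 2 * D := by
      refine Nat.le_of_mul_le_mul_right ?_ (show 0 < k + j + 1 by omega)
      calc 3 * C * (k + j + 1) = C * (3 * (k + j + 1)) := by ring
        _ ≤ C * (2 * (2 * k + j + 1)) := Nat.mul_le_mul_left _ (by omega)
        _ = 2 * (C * (2 * k + j + 1)) := by ring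
        _ = 2 * (D * (k + j + 1)) := by rw [h2]
        _ = 2 * D * (k + j + 1) := by ring
    calc 4 ^ k * 3 ^ (j + 1) = 4 ^ k * 3 ^ j * 3 := by ring
      _ ≤ 2 * k * 2 ^ j * C * 3 := Nat.mul_le_mul_right _ h1
      _ = 2 * k * 2 ^ j * (3 * C) := by ring
      _ ≤ 2 * k * 2 ^ j * (2 * D) := Nat.mul_le_mul_left _ h3
      _ = 2 * k * 2 ^ (j + 1) * D := by ring

theorem log_bound (l : ℕ) : l ≤ 2 ^ (l - 1) / 64 + 6 := by
  by_cases h : l ≤ 8
  · interval_cases l <;> norm_num
  induction l, (show 8 ≤ l by omega) using Nat.le_induction with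
  | base => norm_num
  | succ l hl ih =>
    by_cases h' : l ≤ 8
    · have : l = 8 := by omega
      subst this; norm_num
    · have := ih h'
      have h4 : 2 ^ 8 ≤ 2 ^ (l - 1) := Nat.pow_le_pow_right (by norm_num) (by omega)
      rw [show l + 1 - 1 = l - 1 + 1 by omega, pow_succ]
      omega

theorem four_mul_pow_le (l : ℕ) : 4 * l ^ 4 ≤ 81 * 2 ^ l := by
  by_cases h : l ≤ 8
  · interval_cases l <;> norm_num
  induction l, (show 8 ≤ l by omega) using Nat.le_induction with
  | base => norm_num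
  | succ l hl ih =>
    by_cases h' : l ≤ 8
    · have : l = 8 := by omega
      subst this; norm_num
    · have h1 := ih h'
      have h2 : 8 * (l + 1) ≤ 9 * l := by omega
      have h3 := Nat.pow_le_pow_left h2 4
      rw [mul_pow, mul_pow] at h3
      have h4 : 4 * (l + 1) ^ 4 ≤ 2 * (4 * l ^ 4) := by norm_num at h3; omega
      rw [pow_succ 2 l]
      omega

theorem pow_le_two_pow (k : ℕ) {a b : ℕ} (h : 2 ^ b ≤ a) : 2 ^ (b * k) ≤ a ^ k := by
  rw [pow_mul]; exact Nat.pow_le_pow_left h k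

/-- The inequality used for `m < 16 * k`. -/
theorem key_small {k m : ℕ} (hk : 2048 ≤ k) (hkm : 2 * k ≤ m) (hm : m < 16 * k) :
    2 * k * m ^ (Nat.sqrt m / 3 + 3) * 2 ^ k < 3 ^ k := by
  set s := Nat.sqrt m with hs
  set l := Nat.log 2 s + 1 with hl
  have hs1 : s ^ 2 ≤ m := Nat.sqrt_le' m
  have hs2 : m < (s + 1) ^ 2 := Nat.lt_succ_sqrt' m
  have hs64 : 64 ≤ s := Nat.le_sqrt'.2 (by omega)
  have hls : s + 1 ≤ 2 ^ l := Nat.lt_pow_succ_log_self (by norm_num) s
  have hls' : 2 ^ (l - 1) ≤ s := by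
    rw [hl, Nat.add_sub_cancel]; exact Nat.pow_log_le_self 2 (by omega)
  have hm2 : m ≤ 2 ^ (2 * l) := by
    rw [mul_comm, pow_mul]; exact hs2.le.trans (Nat.pow_le_pow_left hls 2)
  have hlb := log_bound l
  have hdiv : 2 ^ (l - 1) / 64 ≤ s / 64 := Nat.div_le_div_right hls'
  have h64 : 64 * (s / 64) ≤ s := Nat.mul_div_le _ _
  have h3 : 3 * (s / 3) ≤ s := Nat.mul_div_le _ _
  set t := s / 3
  set u := s / 64
  have hexp : 12 * (2 * l * (t + 4)) < 7 * k := by
    have hu : l ≤ u + 6 := by omega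
    have h5 : 24 * (l * (t + 4)) ≤ 8 * ((u + 6) * (s + 12)) := by
      have : l * (3 * t + 12) ≤ (u + 6) * (s + 12) := Nat.mul_le_mul hu (by omega)
      nlinarith
    have h6 : 64 * ((u + 6) * (s + 12)) ≤ (s + 384) * (s + 12) := by
      rw [← mul_assoc]; exact Nat.mul_le_mul_right _ (by omega)
    -- `(s + 384) * (s + 12) < 56 * k` and `s ^ 2 < 16 * k`
    have h7 : (s + 384) * (s + 12) < 56 * k := by nlinarith
    nlinarith
  have h1 : 2 * k * m ^ (t + 3) ≤ 2 ^ (2 * l * (t + 4)) := by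
    rw [pow_mul]
    calc 2 * k * m ^ (t + 3) ≤ m * m ^ (t + 3) := Nat.mul_le_mul_right _ hkm
      _ = m ^ (t + 4) := by ring
      _ ≤ (2 ^ (2 * l)) ^ (t + 4) := Nat.pow_le_pow_left hm2 _
  refine lt_of_pow_lt_pow_left₀ 12 (Nat.zero_le _) ?_
  calc (2 * k * m ^ (t + 3) * 2 ^ k) ^ 12 ≤ (2 ^ (2 * l * (t + 4)) * 2 ^ k) ^ 12 :=
        Nat.pow_le_pow_left (Nat.mul_le_mul_right _ h1) _
    _ = 2 ^ (12 * (2 * l * (t + 4)) + 12 * k) := by rw [← pow_add, ← pow_mul]; congr 1; ring
    _ < 2 ^ (19 * k) := Nat.pow_lt_pow_right (by norm_num) (by omega)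
    _ ≤ (3 ^ 12) ^ k := pow_le_two_pow k (by norm_num)
    _ = (3 ^ k) ^ 12 := by rw [← pow_mul, ← pow_mul, mul_comm]

/-- The inequality used for `16 * k ≤ m`. -/
theorem key_large {k m : ℕ} (hk : 2048 ≤ k) (hm : 16 * k ≤ m) (h5 : m ^ 5 ≤ k ^ 8) :
    m ^ (Nat.sqrt m / 3 + 3) < 4 ^ k := by
  set s := Nat.sqrt m with hs
  set l := Nat.log 2 s + 1 with hl
  have hs1 : s ^ 2 ≤ m := Nat.sqrt_le' m
  have hs2 : m < (s + 1) ^ 2 := Nat.lt_succ_sqrt' m
  have hs181 : 181 ≤ s := Nat.le_sqrt'.2 (by omega)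
  have hls : s + 1 ≤ 2 ^ l := Nat.lt_pow_succ_log_self (by norm_num) s
  have hls' : 2 ^ l ≤ 2 * s := by
    rw [hl, pow_succ, mul_comm]; exact Nat.mul_le_mul_left 2 (Nat.pow_log_le_self 2 (by omega))
  have hm2 : m ≤ 2 ^ (2 * l) := by
    rw [mul_comm, pow_mul]; exact hs2.le.trans (Nat.pow_le_pow_left hls 2)
  have h54 : s ^ 5 ≤ k ^ 4 := by
    refine le_of_pow_le_pow_left₀ two_ne_zero (Nat.zero_le _) ?_
    rw [← pow_mul, ← pow_mul, show 5 * 2 = 2 * 5 by norm_num, pow_mul]
    exact (Nat.pow_le_pow_left hs1 5).trans h5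
  have hA : (s + 12) ^ 4 ≤ 2 * s ^ 4 := by
    have h := Nat.pow_le_pow_left (show 181 * (s + 12) ≤ 193 * s by omega) 4
    rw [mul_pow, mul_pow] at h
    norm_num at h
    omega
  have hB := four_mul_pow_le l
  have hexp : (s + 12) * l ≤ 3 * k := by
    refine le_of_pow_le_pow_left₀ (n := 4) (by norm_num) (Nat.zero_le _) ?_
    calc ((s + 12) * l) ^ 4 = (s + 12) ^ 4 * l ^ 4 := mul_pow _ _ _
      _ ≤ 2 * s ^ 4 * l ^ 4 := Nat.mul_le_mul_right _ hA
      _ = s ^ 4 * (2 * l ^ 4) := by ring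
      _ ≤ s ^ 4 * (81 * s) := Nat.mul_le_mul_left _ (by omega)
      _ = 81 * s ^ 5 := by ring
      _ ≤ 81 * k ^ 4 := Nat.mul_le_mul_left _ h54
      _ = (3 * k) ^ 4 := by ring
  have h3 : 3 * (s / 3) ≤ s := Nat.mul_div_le _ _
  set t := s / 3
  have hlt : 2 * l * (t + 3) < 2 * k := by
    have : 1 ≤ l := by omega
    nlinarith [Nat.mul_le_mul_right l (show 3 * (t + 3) + 3 ≤ s + 12 by omega)]
  calc m ^ (t + 3) ≤ (2 ^ (2 * l)) ^ (t + 3) := Nat.pow_le_pow_left hm2 _
    _ = 2 ^ (2 * l * (t + 3)) := by rw [← pow_mul]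
    _ < 2 ^ (2 * k) := Nat.pow_lt_pow_right (by norm_num) hlt
    _ = 4 ^ k := by rw [pow_mul]; norm_num

/-- Erdős's argument. -/
theorem exists_of_large {k m : ℕ} (hk : 2048 ≤ k) (hkm : 2 * k ≤ m) :
    ∃ p : ℕ, p.Prime ∧ k < p ∧ p ∣ m.choose k := by
  by_contra hcon
  push Not at hcon
  have hs : ∀ p : ℕ, p.Prime → p ∣ m.choose k → p ≤ k := fun p hp hd => by
    by_contra h; exact hcon p hp (not_le.1 h) hd
  have hm0 : 0 < m := by omega
  have hkm' : k ≤ m := by omega
  have hlow := pow_le_choose_mul m k hkm'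
  -- `m ^ 5 ≤ k ^ 8`
  have hpi := primeCounting_le_third (s := k) (by omega)
  have hA := choose_le_pow hkm' hm0 hs
  have h58 : m ^ 5 ≤ k ^ 8 := by
    have ha : 8 * k.primeCounting ≤ 3 * k := by omega
    have h1 : m ^ k ≤ m ^ k.primeCounting * k ^ k := hlow.trans (Nat.mul_le_mul_right _ hA)
    have h2 : m ^ (k - k.primeCounting) ≤ k ^ k := by
      refine Nat.le_of_mul_le_mul_left ?_ (Nat.pow_pos (n := k.primeCounting) hm0)
      rwa [← pow_add, Nat.add_sub_cancel' (by omega)]
    refine le_of_pow_le_pow_left₀ (n := k) (by omega) (Nat.zero_le _) ?_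
    calc (m ^ 5) ^ k = m ^ (5 * k) := by rw [pow_mul]
      _ ≤ m ^ (8 * (k - k.primeCounting)) := Nat.pow_le_pow_right hm0 (by omega)
      _ = (m ^ (k - k.primeCounting)) ^ 8 := by rw [← pow_mul, mul_comm]
      _ ≤ (k ^ k) ^ 8 := Nat.pow_le_pow_left h2 8
      _ = (k ^ 8) ^ k := by rw [← pow_mul, ← pow_mul, mul_comm]
  have hsq : 6 ≤ Nat.sqrt m := Nat.le_sqrt'.2 (by omega)
  set e := Nat.sqrt m / 3 + 3
  have he : m ^ (Nat.sqrt m).primeCounting ≤ m ^ e :=
    Nat.pow_le_pow_right hm0 (primeCounting_le_third hsq)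
  have hup : ∀ b : ℕ, (∀ p : ℕ, p.Prime → p ∣ m.choose k → Nat.sqrt m < p → p ≤ b) →
      m.choose k ≤ m ^ e * 4 ^ b := fun b hb =>
    (choose_le_sqrt hkm' hm0 hb).trans (Nat.mul_le_mul_right _ he)
  rcases lt_or_ge m (16 * k) with hlt | hge
  · have hkey := key_small hk hkm hlt
    change 2 * k * m ^ e * 2 ^ k < 3 ^ k at hkey
    rcases lt_or_ge m (3 * k) with h3 | h3
    · obtain ⟨j, rfl⟩ : ∃ j, m = 2 * k + j := ⟨m - 2 * k, by omega⟩
      have hlo := four_pow_mul_le k (by omega) j (by omega)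
      have hC := hup ((2 * k + j) / 3) fun p hp hd hps => by
        by_contra hcon'
        have h0 : ((2 * k + j).choose k).factorization p = 0 :=
          factorization_choose_of_lt_three_mul (by omega) (hs p hp hd)
            (by have := hs p hp hd; omega) (by omega)
        have := (Nat.Prime.dvd_iff_one_le_factorization hp (choose_ne_zero hkm')).1 hd
        omega
      set C := (2 * k + j).choose k
      set b := (2 * k + j) / 3
      set M := (2 * k + j) ^ e
      have h1 : 4 ^ k * 3 ^ j ≤ 2 * k * M * 2 ^ j * 4 ^ b := by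
        refine hlo.trans ((Nat.mul_le_mul_left _ hC).trans (le_of_eq ?_)); ring
      have hcube : (4 ^ k * 3 ^ j) ^ 3 ≤ (2 * k * M) ^ 3 * 8 ^ j * 4 ^ (2 * k + j) := by
        refine (Nat.pow_le_pow_left h1 3).trans ?_
        rw [mul_pow _ (4 ^ b), ← pow_mul 4 b 3, mul_pow _ (2 ^ j), ← pow_mul 2 j 3,
          mul_comm j 3, pow_mul 2 3 j]
        exact Nat.mul_le_mul (le_of_eq (by norm_num)) (Nat.pow_le_pow_right (by norm_num) (by omega))
      have hx : 4 ^ k * 27 ^ j ≤ (2 * k * M) ^ 3 * 32 ^ j := by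
        refine Nat.le_of_mul_le_mul_right ?_ (show 0 < 4 ^ (2 * k) from Nat.pow_pos (by norm_num))
        calc 4 ^ k * 27 ^ j * 4 ^ (2 * k) = (4 ^ k * 3 ^ j) ^ 3 := by
              rw [mul_pow, ← pow_mul 3 j 3, mul_comm j 3, pow_mul 3 3 j, ← pow_mul, mul_comm (4 ^ k),
                mul_assoc, ← pow_add, mul_comm]
              congr 1
              ring_nf
          _ ≤ _ := hcube
          _ = (2 * k * M) ^ 3 * 32 ^ j * 4 ^ (2 * k) := by
              rw [pow_add, show (32 : ℕ) ^ j = 8 ^ j * 4 ^ j by rw [← mul_pow]; norm_num]; ring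
      -- replace `j` by `k`
      have hy : 27 ^ k ≤ (2 * k * M * 2 ^ k) ^ 3 := by
        refine Nat.le_of_mul_le_mul_right ?_ (show 0 < 4 ^ k from Nat.pow_pos (by norm_num))
        obtain ⟨i, hi⟩ : ∃ i, k = j + i := ⟨k - j, by omega⟩
        calc 27 ^ k * 4 ^ k = 4 ^ k * 27 ^ j * 27 ^ i := by rw [hi]; ring
          _ ≤ (2 * k * M) ^ 3 * 32 ^ j * 32 ^ i :=
              Nat.mul_le_mul hx (Nat.pow_le_pow_left (by norm_num) _)
          _ = (2 * k * M) ^ 3 * 32 ^ k := by rw [mul_assoc, ← pow_add, ← hi]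
          _ = (2 * k * M * 2 ^ k) ^ 3 * 4 ^ k := by
              rw [show (32 : ℕ) = 2 ^ 3 * 4 by norm_num, mul_pow (2 ^ 3) 4, ← pow_mul, mul_comm 3 k, pow_mul,
                mul_pow (2 * k * M) (2 ^ k)]
              ring
      rw [show (27 : ℕ) = 3 ^ 3 by norm_num, ← pow_mul, mul_comm 3 k, pow_mul] at hy
      exact absurd hy (not_le.2 (Nat.pow_lt_pow_left hkey (by norm_num)))
    · have hlo := (four_pow_mul_le k (by omega) k le_rfl).trans
        (Nat.mul_le_mul_left _ (Nat.choose_le_choose k (show 2 * k + k ≤ m by omega)))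
      have hC := hup k fun p hp hd _ => hs p hp hd
      have h1 : 4 ^ k * 3 ^ k ≤ 4 ^ k * (2 * k * m ^ e * 2 ^ k) := by
        refine hlo.trans ((Nat.mul_le_mul_left _ hC).trans (le_of_eq ?_)); ring
      exact absurd (Nat.le_of_mul_le_mul_left h1 (Nat.pow_pos (by norm_num))) (not_le.2 hkey)
  · have hkey := key_large hk hge h58
    have hC := hup k fun p hp hd _ => hs p hp hd
    have h1 : (16 * k) ^ k ≤ m ^ e * 4 ^ k * k ^ k :=
      (Nat.pow_le_pow_left hge k).trans (hlow.trans (Nat.mul_le_mul_right _ hC))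
    rw [mul_pow, show (16 : ℕ) = 4 * 4 by norm_num, mul_pow] at h1
    have h2 := Nat.le_of_mul_le_mul_right h1 (Nat.pow_pos (show 0 < k by omega))
    exact absurd (Nat.le_of_mul_le_mul_right h2 (Nat.pow_pos (by norm_num))) (not_le.2 hkey)

/-- Trial division below `128 ^ 2`. -/
def isSmallPrime (p : ℕ) : Bool :=
  decide (2 ≤ p) && decide (p < 16384) &&
    (List.range 128).all fun d => decide (d < 2) || decide (p ≤ d) || decide (p % d ≠ 0)

theorem prime_of_isSmallPrime {p : ℕ} (h : isSmallPrime p = true) : p.Prime := by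
  simp only [isSmallPrime, Bool.and_eq_true, Bool.or_eq_true, decide_eq_true_eq, List.all_eq_true,
    List.mem_range] at h
  obtain ⟨⟨h2, hlt⟩, hd⟩ := h
  rw [Nat.prime_def_le_sqrt]
  refine ⟨h2, fun d hd2 hds hdvd => ?_⟩
  have h128 : d < 128 := by
    have : Nat.sqrt p < 128 := Nat.sqrt_lt'.2 (by omega)
    omega
  have hdp : d < p := lt_of_le_of_lt hds (Nat.sqrt_lt_self (by omega))
  rcases hd d h128 with (h | h) | h
  · omega
  · omega
  · exact h (Nat.mod_eq_zero_of_dvd hdvd)

/-- An upper bound for the number of primes up to `n`. -/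
def candCount (n : ℕ) : ℕ :=
  ((List.range (n + 1)).filter fun i => decide (2 ≤ i) &&
    [2, 3, 5, 7, 11, 13, 17, 19, 23, 29, 31, 37, 41, 43].all fun d => decide (i ≤ d) || decide (i % d ≠ 0)).length

theorem primeCounting_le_candCount (n : ℕ) : n.primeCounting ≤ candCount n := by
  classical
  rw [← card_primes, candCount]
  refine le_trans ?_ (List.toFinset_card_le _)
  refine card_le_card fun p hp => ?_
  simp only [mem_filter, mem_range] at hp
  simp only [List.mem_toFinset, List.mem_filter, List.mem_range, Bool.and_eq_true, decide_eq_true_eq,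
    List.all_eq_true, Bool.or_eq_true]
  refine ⟨hp.1, hp.2.two_le, fun d hd => ?_⟩
  by_cases hpd : p ≤ d
  · exact Or.inl hpd
  · right
    intro h
    have hd' := (Nat.dvd_prime hp.2).1 (Nat.dvd_of_mod_eq_zero h)
    fin_cases hd <;> omega

/-- Consecutive members at most `g` apart, the last one near `B`. -/
def chainOK (g B : ℕ) : List ℕ → Bool
  | [] => false
  | [p] => decide (B < p + g)
  | p :: q :: r => decide (q ≤ p + g) && chainOK g B (q :: r)

theorem exists_of_chainOK {g B : ℕ} : ∀ {L : List ℕ}, chainOK g B L = true → ∀ p r, L = p :: r →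
    ∀ m, p ≤ m → m ≤ B → ∃ x ∈ L, x ≤ m ∧ m < x + g
  | [], h, _, _, _, _, _, _ => by simp [chainOK] at h
  | [a], h, p, r, hL, m, h1, h2 => by
    simp only [chainOK, decide_eq_true_eq] at h
    obtain ⟨rfl, -⟩ := List.cons.inj hL
    exact ⟨a, List.mem_singleton_self a, h1, by omega⟩
  | a :: b :: t, h, p, r, hL, m, h1, h2 => by
    simp only [chainOK, Bool.and_eq_true, decide_eq_true_eq] at h
    obtain ⟨rfl, -⟩ := List.cons.inj hL
    by_cases hb : m < b
    · exact ⟨a, List.mem_cons_self, h1, by omega⟩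
    · obtain ⟨x, hx, hx'⟩ := exists_of_chainOK h.2 b t rfl m (not_lt.1 hb) h2
      exact ⟨x, List.mem_cons_of_mem _ hx, hx'⟩

/-- Without a prime above `k` the degree is bounded. -/
theorem le_of_count {k0 k1 a B k m : ℕ} (hk0 : k0 ≤ k) (hk1 : k ≤ k1) (hkm : k ≤ m) (hm : 0 < m)
    (hs : ∀ p : ℕ, p.Prime → p ∣ m.choose k → p ≤ k) (ha : k1.primeCounting ≤ a) (ha0 : a < k0)
    (hB : k1 < B) (hpow : k1 ^ k0 < B ^ (k0 - a)) : m ≤ B := by
  by_contra hcon
  have hA := (choose_le_pow hkm hm hs).trans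
    (Nat.pow_le_pow_right hm ((monotone_primeCounting hk1).trans ha))
  have h1 : m ^ k ≤ m ^ a * k ^ k := (pow_le_choose_mul m k hkm).trans (Nat.mul_le_mul_right _ hA)
  have h2 : m ^ (k - a) ≤ k ^ k := by
    refine Nat.le_of_mul_le_mul_left ?_ (Nat.pow_pos (n := a) hm)
    rwa [← pow_add, Nat.add_sub_cancel' (by omega)]
  have h3 : B ^ (k - a) ≤ k1 ^ k :=
    (Nat.pow_le_pow_left (by omega) _).trans (h2.trans (Nat.pow_le_pow_left hk1 k))
  obtain ⟨i, rfl⟩ : ∃ i, k = k0 + i := ⟨k - k0, by omega⟩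
  rw [show k0 + i - a = k0 - a + i by omega, pow_add, pow_add] at h3
  exact absurd h3 (not_le.2 (Nat.mul_lt_mul_of_lt_of_le hpow (Nat.pow_le_pow_left hB.le i)
    (Nat.pow_pos (by omega))))

/-- Tiers `(k₀, k₁, B, chain of primes)`. -/
def tiers : List (ℕ × ℕ × ℕ × List ℕ) :=
  [
    (2, 2, 5, [3, 5]),
    (4, 4, 17, [7, 11, 13, 17]),
    (6, 6, 37, [11, 17, 23, 29, 31, 37]),
    (7, 7, 94, [13, 19, 23, 29, 31, 37, 43, 47, 53, 59, 61, 67, 73, 79, 83, 89]),
    (8, 10, 101, [13, 19, 23, 31, 37, 43, 47, 53, 61, 67, 73, 79, 83, 89, 97]),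
    (11, 12, 96, [19, 29, 37, 47, 53, 61, 71, 79, 89]),
    (13, 13, 118, [23, 31, 43, 53, 61, 73, 83, 89, 101, 113]),
    (14, 16, 129, [23, 37, 47, 61, 73, 83, 97, 109, 113, 127]),
    (17, 22, 344, [31, 47, 61, 73, 89, 103, 113, 127, 139, 151, 167, 181, 197, 211, 227, 241, 257, 271, 283,
      293, 307, 317, 331]),
    (23, 28, 239, [43, 61, 83, 103, 113, 131, 151, 173, 193, 211, 233]),
    (29, 36, 322, [53, 79, 107, 131, 157, 181, 199, 227, 251, 277, 293, 317]),
    (37, 52, 770, [73, 109, 139, 173, 199, 233, 269, 293, 317, 353, 389, 421, 457, 491, 523, 557, 593, 619,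
      653, 683, 719, 751]),
    (53, 66, 570, [103, 151, 199, 251, 293, 337, 389, 439, 491, 541]),
    (67, 96, 1227, [131, 197, 263, 317, 383, 449, 509, 571, 631, 691, 757, 823, 887, 953, 1019, 1069, 1129, 1193]),
    (97, 126, 1099, [193, 283, 379, 467, 563, 659, 751, 839, 929, 1021]),
    (127, 172, 1684, [251, 373, 499, 619, 743, 863, 983, 1109, 1231, 1327, 1453, 1579]),
    (173, 222, 1666, [337, 509, 677, 839, 1009, 1181, 1327, 1499]),
    (223, 306, 2774, [443, 661, 883, 1103, 1321, 1543, 1759, 1979, 2179, 2399, 2621]),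
    (307, 430, 3920, [613, 919, 1223, 1523, 1823, 2129, 2423, 2729, 3023, 3329, 3631]),
    (431, 598, 5072, [859, 1289, 1709, 2137, 2557, 2971, 3391, 3821, 4243, 4673]),
    (599, 856, 7695, [1193, 1789, 2383, 2971, 3559, 4157, 4751, 5347, 5939, 6529, 7127]),
    (857, 1212, 10090, [1709, 2557, 3413, 4261, 5113, 5953, 6803, 7649, 8501, 9349]),
    (1213, 1769, 15683, [2423, 3631, 4831, 6043, 7253, 8461, 9661, 10867, 12073, 13267, 14479]),
    (1770, 2047, 10267, [3539, 5309, 7079, 8849])]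

/-- The test for one tier. -/
def tierOK : ℕ × ℕ × ℕ × List ℕ → Bool
  | (k0, k1, B, L) =>
    decide (candCount k1 < k0) && decide (k1 < B) && decide (k1 ^ k0 < B ^ (k0 - candCount k1)) &&
      decide (L.headI ≤ 2 * k0) && L.all (fun p => isSmallPrime p && decide (k1 < p)) && chainOK k0 B L

theorem exists_of_tierOK {k0 k1 B : ℕ} {L : List ℕ} (h : tierOK (k0, k1, B, L) = true) {k m : ℕ}
    (hk0 : k0 ≤ k) (hk1 : k ≤ k1) (hkm : 2 * k ≤ m) :
    ∃ p : ℕ, p.Prime ∧ k < p ∧ p ∣ m.choose k := by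
  simp only [tierOK, Bool.and_eq_true, decide_eq_true_eq, List.all_eq_true] at h
  obtain ⟨⟨⟨⟨⟨h1, h2⟩, h3⟩, h4⟩, h5⟩, h6⟩ := h
  by_contra hcon
  push Not at hcon
  have hs : ∀ p : ℕ, p.Prime → p ∣ m.choose k → p ≤ k := fun p hp hd => by
    by_contra h'; exact hcon p hp (not_le.1 h') hd
  have hmB := le_of_count hk0 hk1 (by omega) (by omega) hs (primeCounting_le_candCount k1) h1 h2 h3
  cases L with
  | nil => simp [chainOK] at h6
  | cons a r =>
    simp only [List.headI] at h4
    obtain ⟨x, hx, hxm, hmx⟩ := exists_of_chainOK h6 a r rfl m (by omega) hmB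
    obtain ⟨hp, hk⟩ := h5 x hx
    have hxp := prime_of_isSmallPrime hp
    refine hcon x hxp (by omega) (prime_dvd_choose hxp (by omega) ?_ (by omega))
    have := Nat.mod_lt m hxp.pos
    have h' : m % x = m - x := by
      rw [Nat.mod_eq_sub_mod hxm, Nat.mod_eq_of_lt (by omega)]
    omega

/-- The test for a single small `k`. -/
def scanOK (k B : ℕ) (L : List ℕ) : Bool :=
  decide (candCount k < k) && decide (k < B) && decide (k ^ k < B ^ (k - candCount k)) &&
    L.all (fun p => isSmallPrime p && decide (k < p)) &&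
    (List.range (B + 1)).all fun m => decide (m < 2 * k) || L.any fun p => decide (m % p < k)

theorem exists_of_scanOK {k B : ℕ} {L : List ℕ} (h : scanOK k B L = true) {m : ℕ} (hkm : 2 * k ≤ m) :
    ∃ p : ℕ, p.Prime ∧ k < p ∧ p ∣ m.choose k := by
  simp only [scanOK, Bool.and_eq_true, Bool.or_eq_true, decide_eq_true_eq, List.all_eq_true,
    List.any_eq_true, List.mem_range] at h
  obtain ⟨⟨⟨⟨h1, h2⟩, h3⟩, h5⟩, h6⟩ := h
  by_contra hcon
  push Not at hcon
  have hs : ∀ p : ℕ, p.Prime → p ∣ m.choose k → p ≤ k := fun p hp hd => by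
    by_contra h'; exact hcon p hp (not_le.1 h') hd
  have hmB := le_of_count le_rfl le_rfl (by omega) (by omega) hs (primeCounting_le_candCount k) h1 h2 h3
  rcases h6 m (by omega) with h | ⟨p, hp, hpm⟩
  · omega
  · obtain ⟨hp', hk⟩ := h5 p hp
    have hpp := prime_of_isSmallPrime hp'
    exact hcon p hpp hk (prime_dvd_choose hpp hk hpm (by omega))

theorem scan_three : scanOK 3 28 [5, 7, 11, 17] = true := by decide +kernel

theorem scan_five : scanOK 5 56 [7, 11, 13, 17] = true := by decide +kernel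

theorem tiers_ok : tiers.all tierOK = true := by decide +kernel

theorem tiers_cover : (List.range 2048).all (fun k => decide (k < 2) || decide (k = 3) || decide (k = 5) ||
    tiers.any fun t => decide (t.1 ≤ k) && decide (k ≤ t.2.1)) = true := by decide +kernel

/-- **Sylvester–Schur.** -/
theorem exists_prime_gt_dvd_choose {m k : ℕ} (hk : 1 ≤ k) (hkm : 2 * k ≤ m) :
    ∃ p : ℕ, p.Prime ∧ k < p ∧ p ∣ m.choose k := by
  rcases le_or_gt 2048 k with h | h
  · exact exists_of_large h hkm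
  rcases eq_or_lt_of_le hk with rfl | hk2
  · obtain ⟨p, hp, hd⟩ := exists_prime_and_dvd (show m ≠ 1 by omega)
    exact ⟨p, hp, hp.one_lt, by rwa [choose_one_right]⟩
  have hc := tiers_cover
  simp only [List.all_eq_true, List.mem_range, Bool.or_eq_true, List.any_eq_true, Bool.and_eq_true,
    decide_eq_true_eq] at hc
  rcases hc k h with ((h' | rfl) | rfl) | ⟨⟨k0, k1, B, L⟩, ht, hk0, hk1⟩
  · omega
  · exact exists_of_scanOK scan_three hkm
  · exact exists_of_scanOK scan_five hkm
  · exact exists_of_tierOK (List.all_eq_true.1 tiers_ok _ ht) hk0 hk1 hkm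

end Cfsg.Agent.Lib.SylvesterSchur
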