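import Mathlib.NumberTheory.Bertrand
import Mathlib.Tactic

/-!
Two primes in `(n/2, n]` for `n ≥ 11` (Chebyshev–Erdős argument, as for Bertrand's postulate).
-/

namespace Cfsg.Agent.Lib.TwoPrimes

open Nat

private lemma succ_le_two_pow_div {s : ℕ} (hs : 64 ≤ s) : s + 1 ≤ 2 ^ (s / 8) := by
  have key : ∀ k, 8 ≤ k → 8 * k + 8 ≤ 2 ^ k := by
    intro k hk
    induction k, hk using Nat.le_induction with
    | base => norm_num
    | succ k hk ih => rw [pow_succ]; omega
  have := key (s / 8) (by omega)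
  omega

private lemma main_ineq {m : ℕ} (hm : 2048 ≤ m) :
    m * (2 * m) * (2 * m) ^ Nat.sqrt (2 * m) * 4 ^ (2 * m / 3) ≤ 4 ^ m := by
  set s := Nat.sqrt (2 * m) with hs
  have hs64 : 64 ≤ s := Nat.le_sqrt'.mpr (by omega)
  have hs1 : s ^ 2 ≤ 2 * m := Nat.sqrt_le' _
  have hs2 : 2 * m < (s + 1) ^ 2 := Nat.lt_succ_sqrt' _
  have h2m : 2 * m ≤ (2 ^ (s / 8)) ^ 2 :=
    hs2.le.trans (Nat.pow_le_pow_left (succ_le_two_pow_div hs64) 2)
  have hexp : 2 * (s / 8 * (s + 2)) + 2 * (2 * m / 3) ≤ 2 * m := by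
    have h8 : 8 * (s / 8) ≤ s := Nat.mul_div_le _ _
    have h64 : 64 * s ≤ s ^ 2 := by rw [sq]; exact Nat.mul_le_mul_right s hs64
    have : 8 * (s / 8 * (s + 2)) ≤ s ^ 2 + 2 * s := by
      nlinarith [Nat.mul_le_mul_right (s + 2) h8]
    omega
  calc m * (2 * m) * (2 * m) ^ s * 4 ^ (2 * m / 3)
      ≤ (2 * m) * (2 * m) * (2 * m) ^ s * 4 ^ (2 * m / 3) := by gcongr; omega
    _ = (2 * m) ^ (s + 2) * 4 ^ (2 * m / 3) := by ring
    _ ≤ ((2 ^ (s / 8)) ^ 2) ^ (s + 2) * 4 ^ (2 * m / 3) := by gcongr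
    _ = 2 ^ (2 * (s / 8 * (s + 2)) + 2 * (2 * m / 3)) := by
      conv_lhs => rw [show (4 : ℕ) = 2 ^ 2 from rfl, ← pow_mul, ← pow_mul, ← pow_mul, ← pow_add]
      congr 1
      ring
    _ ≤ 2 ^ (2 * m) := Nat.pow_le_pow_right (by norm_num) hexp
    _ = 4 ^ m := by rw [pow_mul]; norm_num

private lemma centralBinom_le {m : ℕ} (hm : 2 < m) (p₀ : ℕ)
    (h : ∀ q : ℕ, q.Prime → m < q → q ≤ 2 * m → q = p₀) :
    Nat.centralBinom m ≤ (2 * m) * (2 * m) ^ Nat.sqrt (2 * m) * 4 ^ (2 * m / 3) := by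
  classical
  have hm0 : 0 < 2 * m := by omega
  set f : ℕ → ℕ := fun x => x ^ (Nat.centralBinom m).factorization x with hf
  set R : Finset ℕ := (Finset.range (2 * m + 1)).filter Nat.Prime with hR
  have h0 : Nat.centralBinom m = ∏ x ∈ R, f x := by
    refine m.prod_pow_factorization_centralBinom.symm.trans ?_
    symm
    refine Finset.prod_filter_of_ne fun p _ hp => ?_
    by_contra hnp
    apply hp
    simp [hf, Nat.factorization_eq_zero_of_not_prime _ hnp]
  have hle2m : ∀ x, f x ≤ 2 * m := fun x => Nat.pow_factorization_choose_le hm0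
  set P : ℕ → Prop := fun x => m < x with hP
  rw [h0, ← Finset.prod_filter_mul_prod_filter_not R P, mul_assoc]
  apply mul_le_mul'
  · -- primes above m: at most one
    have hsub : R.filter P ⊆ {p₀} := by
      intro x hx
      simp only [hR, hP, Finset.mem_filter, Finset.mem_range] at hx
      exact Finset.mem_singleton.mpr (h x hx.1.2 hx.2 (by omega))
    rcases Finset.subset_singleton_iff.mp hsub with he | he
    · rw [he, Finset.prod_empty]; omega
    · rw [he, Finset.prod_singleton]; exact hle2m p₀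
  · set T := R.filter (fun x => ¬ P x)
    rw [← Finset.prod_filter_mul_prod_filter_not T (fun x => x ≤ Nat.sqrt (2 * m))]
    apply mul_le_mul'
    · refine (Finset.prod_le_prod' fun p _ => hle2m p).trans ?_
      rw [Finset.prod_const]
      refine Nat.pow_le_pow_right hm0 ?_
      refine (Finset.card_le_card (t := Finset.Icc 1 (Nat.sqrt (2 * m))) fun x hx => ?_).trans
        (by simp)
      simp only [T, hR, hP, Finset.mem_filter] at hx
      exact Finset.mem_Icc.mpr ⟨hx.1.1.2.one_lt.le, hx.2⟩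
    · calc ∏ x ∈ T.filter (fun x => ¬ x ≤ Nat.sqrt (2 * m)), f x
          ≤ ∏ x ∈ T.filter (fun x => ¬ x ≤ Nat.sqrt (2 * m)), (if x ≤ 2 * m / 3 then x else 1) := by
            refine Finset.prod_le_prod' fun p hp => ?_
            simp only [T, hR, hP, Finset.mem_filter] at hp
            obtain ⟨⟨⟨-, hpp⟩, hpm⟩, hps⟩ := hp
            split_ifs with hp3
            · refine (Nat.pow_le_pow_right hpp.one_lt.le ?_).trans (pow_one p).le
              exact Nat.factorization_choose_le_one (Nat.sqrt_lt'.mp (not_le.1 hps))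
            · simp only [hf]
              rw [Nat.factorization_centralBinom_of_two_mul_self_lt_three_mul hm (by omega)
                (by omega), pow_zero]
        _ ≤ ∏ x ∈ (Finset.range (2 * m / 3 + 1)).filter Nat.Prime, x := by
            rw [← Finset.prod_filter]
            refine Finset.prod_le_prod_of_subset_of_one_le' (fun x hx => ?_) ?_
            · simp only [T, hR, hP, Finset.mem_filter, Finset.mem_range] at hx ⊢
              exact ⟨by omega, hx.1.1.1.2⟩
            · exact fun p hp _ => (Finset.mem_filter.1 hp).2.one_lt.le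
        _ ≤ 4 ^ (2 * m / 3) := primorial_le_four_pow _

private lemma eventually (m : ℕ) (hm : 2048 ≤ m) :
    ∃ p q : ℕ, p.Prime ∧ q.Prime ∧ p < q ∧ m < p ∧ q ≤ 2 * m := by
  obtain ⟨p₀, hp₀, hlt, hle⟩ := Nat.exists_prime_lt_and_le_two_mul m (by omega)
  by_contra hcon
  push Not at hcon
  have h : ∀ q : ℕ, q.Prime → m < q → q ≤ 2 * m → q = p₀ := by
    intro q hq h1 h2
    rcases lt_trichotomy q p₀ with h3 | h3 | h3
    · have := hcon q p₀ hq hp₀ h3 h1; omega
    · exact h3
    · have := hcon p₀ q hp₀ hq h3 hlt; omega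
  have hlow := Nat.four_pow_lt_mul_centralBinom m (by omega)
  have hup := centralBinom_le (m := m) (by omega) p₀ h
  have := main_ineq hm
  have h' := Nat.mul_le_mul_left m hup
  rw [← mul_assoc, ← mul_assoc] at h'
  omega

/-- For `n ≥ 11` there are two distinct primes in `(n/2, n]`. -/
theorem exists_two_primes_half (n : ℕ) (hn : 11 ≤ n) :
    ∃ p q : ℕ, p.Prime ∧ q.Prime ∧ p < q ∧ n < 2 * p ∧ q ≤ n := by
  suffices h : ∀ m, 6 ≤ m → ∃ p q : ℕ, p.Prime ∧ q.Prime ∧ p < q ∧ m < p ∧ q ≤ 2 * m by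
    rcases eq_or_lt_of_le hn with rfl | hn'
    · exact ⟨7, 11, by norm_num, by norm_num, by norm_num, by norm_num, le_rfl⟩
    · obtain ⟨p, q, hp, hq, h1, h2, h3⟩ := h (n / 2) (by omega)
      exact ⟨p, q, hp, hq, h1, by omega, by omega⟩
  intro m hm
  by_cases h : 2048 ≤ m
  · exact eventually m h
  have w : ∀ p q : ℕ, p.Prime → q.Prime → p < q → m < p → q ≤ 2 * m →
      ∃ p q : ℕ, p.Prime ∧ q.Prime ∧ p < q ∧ m < p ∧ q ≤ 2 * m :=
    fun p q a b c d e => ⟨p, q, a, b, c, d, e⟩
  by_cases h1 : m < 7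
  · exact w 7 11 (by norm_num) (by norm_num) (by omega) h1 (by omega)
  by_cases h2 : m < 11
  · exact w 11 13 (by norm_num) (by norm_num) (by omega) h2 (by omega)
  by_cases h3 : m < 17
  · exact w 17 19 (by norm_num) (by norm_num) (by omega) h3 (by omega)
  by_cases h4 : m < 29
  · exact w 29 31 (by norm_num) (by norm_num) (by omega) h4 (by omega)
  by_cases h5 : m < 47
  · exact w 47 53 (by norm_num) (by norm_num) (by omega) h5 (by omega)
  by_cases h6 : m < 83
  · exact w 83 89 (by norm_num) (by norm_num) (by omega) h6 (by omega)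
  by_cases h7 : m < 157
  · exact w 157 163 (by norm_num) (by norm_num) (by omega) h7 (by omega)
  by_cases h8 : m < 311
  · exact w 311 313 (by norm_num) (by norm_num) (by omega) h8 (by omega)
  by_cases h9 : m < 617
  · exact w 617 619 (by norm_num) (by norm_num) (by omega) h9 (by omega)
  by_cases h10 : m < 1229
  · exact w 1229 1231 (by norm_num) (by norm_num) (by omega) h10 (by omega)
  exact w 2441 2447 (by norm_num) (by norm_num) (by omega) (by omega) (by omega)

end Cfsg.Agent.Lib.TwoPrimes
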